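import Mathlib.Algebra.Homology.HomotopyCategory.MappingCone
import Mathlib.Algebra.Homology.HomotopyCategory.HomComplexSingle

/-!
# Maps out of cones of maps from a single object
-/

set_option autoImplicit false
set_option backward.isDefEq.respectTransparency false
set_option linter.style.haveILetI false
set_option linter.unusedSectionVars false

universe v v' u u'

open CategoryTheory CategoryTheory.Limits CochainComplex.HomComplex

namespace Groth.Agent.H16Derived.StalkSpread

variable {C : Type u} [Category.{v} C] [Preadditive C] [HasZeroObject C] [HasBinaryBiproducts C]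
  {F G K : CochainComplex C ℤ}

/-- A map out of a cone is an isomorphism when it is one degreewise in the split sense. -/
theorem isIso_desc (φ : F ⟶ G) (α : Cochain F K (-1)) (β : G ⟶ K)
    (eq : δ (-1) 0 α = Cochain.ofHom (φ ≫ β))
    (h : ∀ q : ℤ, (IsIso (α.v (q + 1) q (by omega)) ∧ IsZero (G.X q)) ∨ (IsZero (F.X (q + 1)) ∧ IsIso (β.f q))) :
    IsIso (CochainComplex.mappingCone.desc φ α β eq) := by
  haveI : ∀ q, IsIso ((CochainComplex.mappingCone.desc φ α β eq).f q) := fun q => by
    rcases h q with ⟨hi, hz⟩ | ⟨hz, hi⟩
    · haveI := hi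
      refine ⟨inv (α.v (q + 1) q (add_neg_cancel_right q 1)) ≫ (CochainComplex.mappingCone.inl φ).v (q + 1) q (add_neg_cancel_right q 1), ?_, ?_⟩
      · refine CochainComplex.mappingCone.ext_from φ (q + 1) q rfl ?_ (hz.eq_of_src _ _)
        simp
      · simp
    · haveI := hi
      refine ⟨inv (β.f q) ≫ (CochainComplex.mappingCone.inr φ).f q, ?_, ?_⟩
      · refine CochainComplex.mappingCone.ext_from φ (q + 1) q rfl (hz.eq_of_src _ _) ?_
        simp
      · simp
  exact HomologicalComplex.Hom.isIso_of_components _

/-- The component of a cochain out of a single object, as a condition. -/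
theorem eq_of_single {M : C} {j i : ℤ} (hij : i + 1 = j)
    (ψ : (HomologicalComplex.single C (ComplexShape.up ℤ) j).obj M ⟶ G) (β : G ⟶ K) (k : M ⟶ K.X i)
    (hk : k ≫ K.d i j = (HomologicalComplex.singleObjXSelf (ComplexShape.up ℤ) j M).inv ≫ ψ.f j ≫ β.f j) :
    δ (-1) 0 (Cochain.fromSingleMk k (show j + -1 = i by omega)) = Cochain.ofHom (ψ ≫ β) := by
  rw [Cochain.δ_fromSingleMk k _ 0 j (by omega)]
  apply (Cochain.fromSingleEquiv (show j + 0 = j by omega)).injective
  rw [Cochain.fromSingleEquiv_fromSingleMk, hk]
  simp [Cochain.fromSingleEquiv]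

section Map

variable {D : Type u'} [Category.{v'} D] [Preadditive D] [HasBinaryBiproducts D] (H : C ⥤ D) [H.Additive]

/-- Functors commute with maps out of cones. -/
theorem map_desc (φ : F ⟶ G) (α : Cochain F K (-1)) (β : G ⟶ K)
    (eq : δ (-1) 0 α = Cochain.ofHom (φ ≫ β)) :
    (H.mapHomologicalComplex (ComplexShape.up ℤ)).map (CochainComplex.mappingCone.desc φ α β eq) =
      (CochainComplex.mappingCone.mapHomologicalComplexIso φ H).hom ≫
        CochainComplex.mappingCone.desc ((H.mapHomologicalComplex (ComplexShape.up ℤ)).map φ) (α.map H)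
          ((H.mapHomologicalComplex (ComplexShape.up ℤ)).map β)
          (by rw [δ_map, eq, Cochain.map_ofHom, Functor.map_comp]) := by
  refine HomologicalComplex.hom_ext _ _ fun q => ?_
  rw [HomologicalComplex.comp_f, CochainComplex.mappingCone.mapHomologicalComplexIso]
  simp only [HomologicalComplex.Hom.isoOfComponents_hom_f,
    CochainComplex.mappingCone.mapHomologicalComplexXIso_eq φ H q (q + 1) rfl,
    CochainComplex.mappingCone.mapHomologicalComplexXIso'_hom, Functor.mapHomologicalComplex_map_f,
    CochainComplex.mappingCone.desc_f φ α β eq q (q + 1) rfl]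
  simp

end Map

end Groth.Agent.H16Derived.StalkSpread
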