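import Groth.Agent.H16Derived.KFlat.FlatCover
import Groth.Agent.H16Derived.QCohD.Perfect
import Groth.Agent.H16Derived.KFlat.LocFreeOps
import Groth.Agent.H05EGA4.LefConn

/-!
# Free generators near a point and their stalks
-/

set_option autoImplicit false
set_option linter.style.haveILetI false
set_option linter.unusedSectionVars false
set_option backward.isDefEq.respectTransparency false

universe u

open CategoryTheory CategoryTheory.Limits AlgebraicGeometry

attribute [local instance] HasDerivedCategory.standard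

namespace Groth.Agent.H16Derived.StalkSpread

open Groth.Agent.H16Derived.KFlat.Stalk Groth.Agent.H16Derived.QCohD Groth.Agent.H10Coh

variable {X : Scheme.{u}}

/-- `n` copies of `j_! O_U`. -/
noncomputable abbrev freeOn (U : X.Opens) (n : ℕ) : X.Modules := ∐ fun _ : Fin n => gen U

/-- `j_! O_U` is free over opens inside `U`. -/
theorem nonempty_restrict_gen {W U : X.Opens} (h : W ≤ U) :
    Nonempty ((Scheme.Modules.restrictFunctor W.ι).obj (gen U) ≅ Coh.structureModule (W : Scheme.{u})) := by
  haveI := MV.isIso_extZero_unit U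
  let eG : gen U ≅ (CxOX.extZero U.ι).obj (Coh.structureModule (U : Scheme.{u})) :=
    (eqToIso (congrArg freeSh U.ι_image_top)).symm ≪≫ (extZeroFreeIso U.ι).symm ≪≫
      (CxOX.extZero U.ι).mapIso freeShTopIso
  exact ⟨(Scheme.Modules.restrictFunctor W.ι).mapIso eG ≪≫
    ((Scheme.Modules.restrictFunctorCongr (X.homOfLE_ι h).symm ≪≫
        Scheme.Modules.restrictFunctorComp (X.homOfLE h) U.ι).app _) ≪≫
      (Scheme.Modules.restrictFunctor (X.homOfLE h)).mapIso
        ((asIso (CxOX.extZeroAdj U.ι).unit).app _).symm ≪≫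
      Scheme.Modules.restrictUnitIso (X.homOfLE h)⟩

/-- Finite sums of generators are finite locally free inside. -/
theorem isFinLocFree_restrict_freeOn {W U : X.Opens} (h : W ≤ U) (n : ℕ) :
    FlatMod.IsFinLocFree ((Scheme.Modules.restrictFunctor W.ι).obj (freeOn U n)) := by
  obtain ⟨e⟩ := nonempty_restrict_gen (X := X) h
  refine isFinLocFree_of_iso (PreservesCoproduct.iso (Scheme.Modules.restrictFunctor W.ι) _).symm
    (isFinLocFree_sigma _ fun k => ?_)
  exact isFinLocFree_of_iso e.symm (Groth.Agent.H05EGA4.LefConn.isFinLocFree_unit _)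

variable (x : X) (U : X.Opens)

/-- The tautological element of the stalk. -/
noncomputable def taut (hx : x ∈ U) (n : ℕ) (k : Fin n) : (DerSch.stalkFunctor X x).obj (freeOn U n) :=
  (DerSch.stalkFunctor X x).map (Sigma.ι (fun _ : Fin n => gen U) k)
    ((gen U).presheaf.germ U x hx (genSect U))

/-- The stalk of the generators is free on the tautological elements. -/
theorem exists_stalk_freeOn (hx : x ∈ U) (n : ℕ) :
    ∃ α : ModuleCat.of (X.presheaf.stalk x) (Fin n → X.presheaf.stalk x) ≅
        (DerSch.stalkFunctor X x).obj (freeOn U n),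
      ∀ k, α.hom (Pi.single k 1) = taut x U hx n k := by
  classical
  let R := X.presheaf.stalk x
  let F := DerSch.stalkFunctor X x
  let d : gen U ⟶ H06Mod.sky x R := (genEquiv U (H06Mod.sky x R)).symm (fun _ => (1 : R))
  let i : F.obj (gen U) ⟶ ModuleCat.of R R := ModuleCat.ofHom
    { toFun := H06Mod.stalkOfHom d
      map_add' := map_add _
      map_smul' := H06Mod.stalkOfHom_smul d }
  have hi : i ((gen U).presheaf.germ U x hx (genSect U)) = 1 := by
    show H06Mod.stalkOfHom d _ = _
    rw [H06Mod.stalkOfHom_germ, ← genEquiv_eq, Equiv.apply_symm_apply]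
    rfl
  let hc := isColimitOfPreserves F (coproductIsCoproduct fun _ : Fin n => gen U)
  let β : ModuleCat.of R (Fin n → R) ⟶ F.obj (freeOn U n) :=
    ModuleCat.ofHom ((Pi.basisFun R (Fin n)).constr R (taut x U hx n))
  let γ : F.obj (freeOn U n) ⟶ ModuleCat.of R (Fin n → R) := hc.desc
    (Cocone.mk (ModuleCat.of R (Fin n → R))
      (Discrete.natTrans fun k => i ≫ ModuleCat.ofHom (LinearMap.single R (fun _ => R) k.as)))
  have hβ : ∀ k, β (Pi.single k 1) = taut x U hx n k := fun k => by
    rw [← Pi.basisFun_apply]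
    exact (Pi.basisFun R (Fin n)).constr_basis R _ k
  have hγ : ∀ k, γ (taut x U hx n k) = Pi.single k 1 := fun k => by
    have h := hc.fac (Cocone.mk (ModuleCat.of R (Fin n → R))
      (Discrete.natTrans fun k => i ≫ ModuleCat.ofHom (LinearMap.single R (fun _ => R) k.as))) ⟨k⟩
    refine (ConcreteCategory.congr_hom h ((gen U).presheaf.germ U x hx (genSect U))).trans ?_
    show LinearMap.single R (fun _ => R) k (i _) = _
    rw [hi]
    rfl
  refine ⟨⟨β, γ, ?_, ?_⟩, hβ⟩
  · refine ModuleCat.hom_ext ((Pi.basisFun R (Fin n)).ext fun k => ?_)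
    rw [Pi.basisFun_apply]
    exact (congrArg γ (hβ k)).trans (hγ k)
  · refine hc.hom_ext fun k => ModuleCat.hom_ext (gen_stalk_ext U x _ _ fun hx' => ?_)
    show β (γ (taut x U hx n k.as)) = taut x U hx n k.as
    rw [hγ, hβ]

end Groth.Agent.H16Derived.StalkSpread
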