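import Groth.Agent.H16Derived.StalkSpread.Maps
import Groth.Agent.H16Derived.TorTest.RpushAmpLoc
import Groth.Agent.H16Derived.TorTest.PerfSpread
import Groth.Agent.H16Derived.Thomason.IsoTransport
import Groth.Agent.H16Derived.Thomason.CohExtend
import Groth.Agent.H10Coh.Support
import Groth.Agent.H8Props.FinLocFree.Global

/-!
# Pseudo-coherent objects with isomorphic stalks are isomorphic nearby
-/

set_option autoImplicit false
set_option linter.style.haveILetI false
set_option linter.unusedSectionVars false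
set_option backward.isDefEq.respectTransparency false

universe u

open CategoryTheory CategoryTheory.Limits AlgebraicGeometry Pretriangulated
open DerivedCategory.TStructure (t)

attribute [local instance] HasDerivedCategory.standard

namespace Groth.Agent.H16Derived.StalkSpread

open Groth.Agent.H16Derived.KFlat.Stalk Groth.Agent.H16Derived.TorTest

/-- Stalks of finite locally free modules are finite. -/
theorem finite_stalk_of_finLocFree {X : Scheme.{u}} (M : X.Modules) (h : FlatMod.IsFinLocFree M) (x : X) :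
    Module.Finite (X.presheaf.stalk x) (M.presheaf.stalk x) := by
  open H8Props.FinLocFree H29Fitt in
  have hM := isQCoh_of_isFinLocFree M h
  obtain ⟨_, ⟨U, hU : IsAffineOpen U, rfl⟩, hxU, -⟩ :=
    X.isBasis_affineOpens.exists_subset_of_mem_open (Set.mem_univ x) isOpen_univ
  let y : U := ⟨x, hxU⟩
  letI := TopCat.Presheaf.algebra_section_stalk X.presheaf y
  letI := Module.compHom (M.presheaf.stalk x) (algebraMap Γ(X, U) (X.presheaf.stalk x))
  haveI : IsScalarTower Γ(X, U) (X.presheaf.stalk x) (M.presheaf.stalk x) :=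
    .of_algebraMap_smul fun _ _ => rfl
  open H8Props.FinLocFree H29Fitt in
  haveI := isLocalizedModule_germLin M hM hU y
  haveI : IsLocalization.AtPrime (X.presheaf.stalk x) (hU.primeIdealOf y).asIdeal :=
    hU.isLocalization_stalk y
  open H8Props.FinLocFree H29Fitt in
  haveI := finitePresentation_sections M (isFP_of_isFinLocFree M h) hU
  open H8Props.FinLocFree H29Fitt in
  exact Module.Finite.of_isLocalizedModule (hU.primeIdealOf y).asIdeal.primeCompl (germLin M y)

/-- Approximation on complexes survives exact functors. -/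
theorem approx_map {C D : Type*} [Category C] [Abelian C] [Category D] [Abelian D] [HasDerivedCategory C]
    [HasDerivedCategory D] (F : C ⥤ D) [F.Additive] [PreservesFiniteLimits F] [PreservesFiniteColimits F]
    {m : ℤ} {K L : CochainComplex C ℤ} (f : K ⟶ L) (h : Approx m (DerivedCategory.Q.map f)) :
    Approx m (DerivedCategory.Q.map ((F.mapHomologicalComplex (ComplexShape.up ℤ)).map f)) := by
  have key : ∀ i, Arrow.mk ((DerivedCategory.homologyFunctor D i).map
      (DerivedCategory.Q.map ((F.mapHomologicalComplex (ComplexShape.up ℤ)).map f))) ≅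
      Arrow.mk (F.map (HomologicalComplex.homologyMap f i)) := fun i =>
    Arrow.isoMk ((DerivedCategory.homologyFunctorFactors D i).app _ ≪≫ (K.sc i).mapHomologyIso F)
      ((DerivedCategory.homologyFunctorFactors D i).app _ ≪≫ (L.sc i).mapHomologyIso F) (by
        dsimp
        rw [Category.assoc]
        erw [(DerivedCategory.homologyFunctorFactors D i).hom.naturality_assoc
          ((F.mapHomologicalComplex (ComplexShape.up ℤ)).map f)]
        exact congrArg (_ ≫ ·) (ShortComplex.mapHomologyIso_hom_naturality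
          ((HomologicalComplex.shortComplexFunctor C (ComplexShape.up ℤ) i).map f) F).symm)
  have hC : ∀ i, Arrow.mk ((DerivedCategory.homologyFunctor C i).map (DerivedCategory.Q.map f)) ≅
      Arrow.mk (HomologicalComplex.homologyMap f i) := fun i =>
    Arrow.isoMk ((DerivedCategory.homologyFunctorFactors C i).app _)
      ((DerivedCategory.homologyFunctorFactors C i).app _)
      ((DerivedCategory.homologyFunctorFactors C i).hom.naturality f).symm
  refine ⟨fun i hi => ?_, ?_⟩
  · haveI : IsIso (HomologicalComplex.homologyMap f i) :=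
      (MorphismProperty.arrow_mk_iso_iff (MorphismProperty.isomorphisms _) (hC i)).1 (h.1 i hi)
    exact (MorphismProperty.arrow_mk_iso_iff (MorphismProperty.isomorphisms _) (key i)).2
      (inferInstanceAs (IsIso (F.map (HomologicalComplex.homologyMap f i))))
  · haveI : Epi (HomologicalComplex.homologyMap f m) :=
      (MorphismProperty.arrow_mk_iso_iff (MorphismProperty.epimorphisms _) (hC m)).1 h.2
    exact (MorphismProperty.arrow_mk_iso_iff (MorphismProperty.epimorphisms _) (key m)).2
      (inferInstanceAs (Epi (F.map (HomologicalComplex.homologyMap f m))))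

variable {X : Scheme.{u}} (x : X)

/-- Pseudo-coherence gives free approximations of the stalk complex. -/
theorem exists_stalk_approx (G : CochainComplex X.Modules ℤ) (m : ℤ)
    (hG : DCoh.IsPseudoCoherentD m (DCoh.toD X G)) :
    ∃ (a : ℤ) (k : ℕ) (W : DRing.Cx (X.presheaf.stalk x)) (h : W ⟶ (St x).obj G),
      (∀ q, q < a → IsZero (W.X q)) ∧ (∀ q, a + k ≤ q → IsZero (W.X q)) ∧
      (∀ q, Module.Finite (X.presheaf.stalk x) (W.X q) ∧ Module.Free (X.presheaf.stalk x) (W.X q)) ∧
      Approx m (DerivedCategory.Q.map h) := by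
  obtain ⟨V, hxV, P, α, hP, hα⟩ := (isPseudoCoherentD_iff _ _).1 hG x
  obtain ⟨V', π, hxV', hπ⟩ := exists_real hP (α ≫ ((rdQ V.ι).app G).hom) ⟨x, hxV⟩
  have hπ' : Approx m (DerivedCategory.Q.map π) := hπ ▸ (Approx.of_isIso _ _).comp
    (((hα.comp (Approx.of_isIso _ _)).map_rd V'.ι).comp (Approx.of_isIso _ _))
  let j := V'.ι ≫ V.ι
  let w : (V' : Scheme.{u}) := ⟨⟨x, hxV⟩, hxV'⟩
  have hPr := isStrictlyPerfect_rd V'.ι hP
  let P' := (DCoh.restrictCx V').obj P
  let φ : X.presheaf.stalk x →+* (V' : Scheme.{u}).presheaf.stalk w := (j.stalkMap w).hom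
  haveI : IsIso (j.stalkMap w) := inferInstance
  let σ : X.presheaf.stalk x ≃+* (V' : Scheme.{u}).presheaf.stalk w :=
    RingEquiv.ofBijective φ (ConcreteCategory.bijective_of_isIso (j.stalkMap w))
  let eG : (DerSch.stalkCxOver j w).obj ((DCoh.restrictCx V').obj ((DCoh.restrictCx V).obj G)) ≅ (St x).obj G :=
    (DerSch.stalkCxOver j w).mapIso
      ((NatIso.mapHomologicalComplex (Scheme.Modules.restrictFunctorComp V'.ι V.ι) (ComplexShape.up ℤ)).app G).symm ≪≫
      stalkRestrictIso j G w
  obtain ⟨⟨p, q, hpq⟩, hfree⟩ := hPr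
  haveI : PreservesFiniteLimits (DerSch.stalkOver j w) := comp_preservesFiniteLimits _ _
  haveI : PreservesFiniteColimits (DerSch.stalkOver j w) := comp_preservesFiniteColimits _ _
  refine ⟨p, (q - p + 1).toNat, (DerSch.stalkCxOver j w).obj P', (DerSch.stalkCxOver j w).map π ≫ eG.hom,
    fun i hi => (DerSch.stalkOver j w).map_isZero (hpq i (Or.inl hi)),
    fun i hi => (DerSch.stalkOver j w).map_isZero (hpq i (Or.inr (by omega))), fun i => ?_, ?_⟩
  · haveI : Module.Free ((V' : Scheme.{u}).presheaf.stalk w) ((P'.X i).presheaf.stalk w) :=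
      H8Props.FinLocFree.free_stalk _ (hfree i) w
    haveI : Module.Finite ((V' : Scheme.{u}).presheaf.stalk w) ((P'.X i).presheaf.stalk w) :=
      finite_stalk_of_finLocFree _ (hfree i) w
    letI := RingHomInvPair.of_ringEquiv σ
    letI := RingHomInvPair.of_ringEquiv_symm σ
    let e₂ : (P'.X i).presheaf.stalk w ≃ₛₗ[(σ.symm : (V' : Scheme.{u}).presheaf.stalk w →+* X.presheaf.stalk x)]
        ((DerSch.stalkOver j w).obj (P'.X i)) :=
      { toFun := fun v => v
        invFun := fun v => v
        left_inv := fun _ => rfl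
        right_inv := fun _ => rfl
        map_add' := fun _ _ => rfl
        map_smul' := fun r v => by
          show r • v = φ (σ.symm r) • v
          exact congrArg (· • v) (σ.apply_symm_apply r).symm }
    exact ⟨Module.Finite.of_surjective e₂.toLinearMap e₂.surjective, Module.Free.of_equiv e₂⟩
  · rw [Functor.map_comp]
    exact (approx_map (DerSch.stalkOver j w) π hπ').comp (Approx.of_isIso _ _)

/-- A map of pseudo-coherent bounded above complexes, approximating at a stalk, approximates nearby. -/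
theorem exists_nhd_isLE_cone (K : CochainComplex X.Modules ℤ) (m N : ℤ)
    (V₀ : X.Opens) (hx : x ∈ V₀) [DerivedCategory.IsLE ((rd V₀.ι).obj (DCoh.toD X K)) N] (hpc : ∀ n, DCoh.IsPseudoCoherentD n ((rd V₀.ι).obj (DCoh.toD X K)))
    (hst : ∀ i, m < i → IsZero (((St x).obj K).homology i)) :
    ∃ V : X.Opens, x ∈ V ∧ V ≤ V₀ ∧ DerivedCategory.IsLE ((rd V.ι).obj (DCoh.toD X K)) m := by
  have hsupp : ∀ i, m < i → x ∉ CohB1.support (DCoh.HD (DCoh.toD X K) i) := fun i hi hmem => by
    have hz : IsZero ((DerSch.stalkFunctor X x).obj (DCoh.HD (DCoh.toD X K) i)) :=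
      (hst i hi).of_iso ((DerSch.stalkFunctor X x).mapIso ((DerivedCategory.homologyFunctorFactors _ i).app K) ≪≫
        ((K.sc i).mapHomologyIso (DerSch.stalkFunctor X x)).symm)
    exact hmem (ModuleCat.subsingleton_of_isZero hz)
  suffices h : ∀ d : ℕ, ∃ V : X.Opens, x ∈ V ∧ V ≤ V₀ ∧
      DerivedCategory.IsLE ((rd V.ι).obj (DCoh.toD X K)) (max m (N - d)) by
    obtain ⟨V, hV, hle, h'⟩ := h (N - m).toNat
    rw [max_eq_left (by omega : N - ((N - m).toNat : ℤ) ≤ m)] at h'
    exact ⟨V, hV, hle, h'⟩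
  intro d
  induction d with
  | zero =>
    refine ⟨V₀, hx, le_rfl, ?_⟩
    exact t.isLE_of_le _ N _ (by simp)
  | succ d ih =>
    obtain ⟨V, hV, hle, hLE⟩ := ih
    rcases le_or_gt (N - d) m with hd | hd
    · refine ⟨V, hV, hle, ?_⟩
      rw [max_eq_left (by push_cast; omega)]
      rw [max_eq_left hd] at hLE
      exact hLE
    rw [max_eq_right hd.le] at hLE
    haveI := hLE
    let w : (V : Scheme.{u}) := ⟨x, hV⟩
    have hpcV : DCoh.IsPseudoCoherentD (N - d) ((rd V.ι).obj (DCoh.toD X K)) :=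
      isPseudoCoherentD_of_iso (rdComp (X.homOfLE hle) V₀.ι V.ι (X.homOfLE_ι hle) _).symm
        (isPseudoCoherentD_rd (X.homOfLE hle) (hpc _))
    have hft := isFT_HD_of_pc hpcV fun i hi => DerivedCategory.isZero_of_isLE _ (N - d) i hi
    have hw : Subsingleton ((DCoh.HD ((rd V.ι).obj (DCoh.toD X K)) (N - d)).presheaf.stalk w) := by
      have h1 : w ∉ CohB1.support (DCoh.HD ((rd V.ι).obj (DCoh.toD X K)) (N - d)) := fun h =>
        hsupp _ hd ((Thomason.mem_support_rd V.ι _ _ w).1 h)
      exact not_not.1 h1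
    obtain ⟨T, hwT, hT⟩ := H10Coh.exists_nhd_isZero _ hft w hw
    have hTV : V.ι ''ᵁ T ≤ V := by
      rintro _ ⟨y, -, rfl⟩
      exact y.2
    refine ⟨V.ι ''ᵁ T, ⟨w, hwT, rfl⟩, hTV.trans hle, ?_⟩
    refine (Thomason.isLE_iff_support _ _).2 fun i hi => Set.eq_empty_iff_forall_notMem.2 fun y hy => ?_
    have hy' := (Thomason.mem_support_rd (V.ι ''ᵁ T).ι (DCoh.toD X K) i y).1 hy
    obtain ⟨v, hvT, hv⟩ : ∃ v : (V : Scheme.{u}), v ∈ T ∧ V.ι v = (V.ι ''ᵁ T).ι y := y.2
    have hv' : v ∈ CohB1.support (DCoh.HD ((rd V.ι).obj (DCoh.toD X K)) i) :=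
      (Thomason.mem_support_rd V.ι _ i v).2 (by rw [hv]; exact hy')
    rcases lt_or_ge (N - d) i with hi' | hi'
    · exact Set.eq_empty_iff_forall_notMem.1 ((Thomason.isLE_iff_support _ _).1 hLE i hi') v hv'
    · obtain rfl : i = N - d := by push_cast at hi; omega
      let s := ((Scheme.Modules.restrictStalkNatIso T.ι ⟨v, hvT⟩).app
        (DCoh.HD ((rd V.ι).obj (DCoh.toD X K)) (N - d))).addCommGroupIsoToAddEquiv
      have hz := Thomason.support_eq_empty_of_isZero hT
      exact Set.eq_empty_iff_forall_notMem.1 hz ⟨v, hvT⟩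
        fun h => hv' (@Equiv.subsingleton _ _ s.symm.toEquiv h)

/-- Truncations do not see approximations. -/
theorem nonempty_truncGE_iso {Y : Scheme.{u}} {A B : DCoh.D Y} (f : A ⟶ B) (c m : ℤ) (hm : m < c)
    (hf : Approx m f) [B.IsGE c] : Nonempty ((t.truncGE c).obj A ≅ B) := by
  let g := (t.truncGE c).map f
  haveI : IsIso ((t.truncGEπ c).app B) := (t.isGE_iff_isIso_truncGEπ_app c B).1 ‹_›
  suffices hg : IsIso g from ⟨asIso g ≪≫ (asIso ((t.truncGEπ c).app B)).symm⟩
  obtain ⟨Z, p, q, hT⟩ := distinguished_cocone_triangle g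
  have hiso : ∀ i, IsIso ((DerivedCategory.homologyFunctor _ i).map g) := fun i => by
    rcases lt_or_ge i c with hi | hi
    · exact isIso_of_source_target_iso_zero _
        (DerivedCategory.isZero_of_isGE ((t.truncGE c).obj A) c i hi).isoZero
        (DerivedCategory.isZero_of_isGE ((t.truncGE c).obj B) c i hi).isoZero
    · haveI := DTrunc.isIso_homology_truncGEπ A c i hi
      haveI := DTrunc.isIso_homology_truncGEπ B c i hi
      haveI := hf.1 i (by omega)
      have e := congrArg (DerivedCategory.homologyFunctor Y.Modules i).map ((t.truncGEπ c).naturality f)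
      simp only [Functor.id_map, Functor.map_comp] at e
      exact IsIso.of_isIso_fac_left e.symm
  refine (Triangle.isZero₃_iff_isIso₁ _ hT).1 (MVPush.isZero_of_hd Z fun i => ?_)
  exact (DerivedCategory.HomologySequence.exact₃ _ hT i (i + 1) rfl).isZero_of_both_zeros
    ((DerivedCategory.HomologySequence.epi_homologyMap_mor₁_iff _ hT i).1 (@IsIso.epi_of_iso _ _ _ _ _ (hiso i)))
    ((DerivedCategory.HomologySequence.mono_homologyMap_mor₁_iff _ hT i (i + 1) rfl).1
      (@IsIso.mono_of_iso _ _ _ _ _ (hiso (i + 1))))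

/-- A map from a complex strictly perfect near `x` that approximates at the stalk approximates nearby. -/
theorem exists_nhd_approx {E' E : CochainComplex X.Modules ℤ} (φ : E' ⟶ E) (U : X.Opens) (hx : x ∈ U)
    (hE' : DCoh.IsStrictlyPerfect ((DCoh.restrictCx U).obj E')) (d : ℤ) [(DCoh.toD X E).IsLE d]
    (hpc : ∀ n, DCoh.IsPseudoCoherentD n (DCoh.toD X E)) (m : ℤ)
    (hst : Approx m (DerivedCategory.Q.map ((St x).map φ))) :
    ∃ V : X.Opens, x ∈ V ∧ V ≤ U ∧ Approx m ((rd V.ι).map (DerivedCategory.Q.map φ)) := by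
  let C := CochainComplex.mappingCone φ
  have hT := DerivedCategory.mappingCone_triangle_distinguished φ
  have hTU := (rd U.ι).map_distinguished _ hT
  obtain ⟨⟨a, b, hab⟩, hfree⟩ := hE'
  let eU : (rd U.ι).obj (DCoh.toD X E') ≅ DerivedCategory.Q.obj ((DCoh.restrictCx U).obj E') := (rdQ U.ι).app E'
  haveI : ((DCoh.restrictCx U).obj E').IsStrictlyLE b :=
    (CochainComplex.isStrictlyLE_iff _ b).2 fun i hi => hab i (Or.inr hi)
  let N : ℤ := max b d
  haveI h1 : DerivedCategory.IsLE ((rd U.ι).obj (DCoh.toD X E')) b := by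
    refine (DerivedCategory.isLE_iff _ _).2 fun i hi => IsZero.of_iso ?_
      ((DerivedCategory.homologyFunctor _ i).mapIso eU ≪≫ (DerivedCategory.homologyFunctorFactors _ i).app _)
    exact (ShortComplex.exact_iff_isZero_homology _).1
      (ShortComplex.exact_of_isZero_X₂ _ (hab i (Or.inr hi)))
  haveI h2 := isLE_rd U.ι (DCoh.toD X E) d
  haveI hN : DerivedCategory.IsLE ((rd U.ι).obj (DCoh.toD X C)) N := by
    refine (DerivedCategory.isLE_iff _ _).2 fun i hi => ?_
    exact (DerivedCategory.HomologySequence.exact₃ _ hTU i (i + 1) rfl).isZero_of_both_zeros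
      ((DerivedCategory.isZero_of_isLE ((rd U.ι).obj (DCoh.toD X E)) d i (by omega)).eq_of_src _ _)
      ((DerivedCategory.isZero_of_isLE ((rd U.ι).obj (DCoh.toD X E')) b (i + 1) (by omega)).eq_of_tgt _ _)
  have hpcC : ∀ n, DCoh.IsPseudoCoherentD n ((rd U.ι).obj (DCoh.toD X C)) := fun n =>
    isPseudoCoherentD_obj₃ hTU
      (isPseudoCoherentD_of_iso eU.symm (isPseudoCoherentD_of_isPerfect
        (Dual.isPerfect_Q_of_isStrictlyPerfect ⟨⟨a, b, hab⟩, hfree⟩) _))
      (isPseudoCoherentD_rd U.ι (hpc n))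
  have hC : ∀ i, m - 1 < i → IsZero (((St x).obj C).homology i) := fun i hi => by
    haveI : DerivedCategory.IsLE (DerivedCategory.Q.obj (CochainComplex.mappingCone ((St x).map φ))) (m - 1) :=
      (approx_iff (DerivedCategory.mappingCone_triangle_distinguished ((St x).map φ)) m).1 hst
    refine (DerivedCategory.isZero_of_isLE (DerivedCategory.Q.obj (CochainComplex.mappingCone ((St x).map φ)))
      (m - 1) i hi).of_iso ?_
    exact HomologicalComplex.homologyMapIso
      (CochainComplex.mappingCone.mapHomologicalComplexIso φ (DerSch.stalkFunctor X x)) i ≪≫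
      ((DerivedCategory.homologyFunctorFactors _ i).app _).symm
  obtain ⟨V, hV, hle, hLE⟩ := exists_nhd_isLE_cone x C (m - 1) N U hx hpcC hC
  exact ⟨V, hV, hle, (approx_iff ((rd V.ι).map_distinguished _ hT) m).2 hLE⟩

/-- Approximations restrict to smaller opens. -/
theorem approx_mono {V V' : X.Opens} (h : V' ≤ V) {A B : DCoh.D X} (f : A ⟶ B) {m : ℤ}
    (hf : Approx m ((rd V.ι).map f)) : Approx m ((rd V'.ι).map f) := by
  obtain ⟨Z, p, q, hT⟩ := distinguished_cocone_triangle f
  rw [show (rd V.ι).map f = ((rd V.ι).mapTriangle.obj (Triangle.mk f p q)).mor₁ from rfl,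
    approx_iff ((rd V.ι).map_distinguished _ hT)] at hf
  rw [show (rd V'.ι).map f = ((rd V'.ι).mapTriangle.obj (Triangle.mk f p q)).mor₁ from rfl,
    approx_iff ((rd V'.ι).map_distinguished _ hT)]
  haveI : DerivedCategory.IsLE ((rd V.ι).obj Z) (m - 1) := hf
  haveI := isLE_rd (X.homOfLE h) ((rd V.ι).obj Z) (m - 1)
  exact t.isLE_of_iso (rdComp (X.homOfLE h) V.ι V'.ι (X.homOfLE_ι h) Z).symm (m - 1)

/-- Isomorphic stalks of pseudo-coherent bounded objects spread. -/
theorem exists_nhd_iso (E F : CochainComplex X.Modules ℤ) (c d : ℤ)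
    [(DCoh.toD X E).IsGE c] [(DCoh.toD X E).IsLE d] [(DCoh.toD X F).IsGE c] [(DCoh.toD X F).IsLE d]
    (hE : ∀ n, DCoh.IsPseudoCoherentD n (DCoh.toD X E)) (hF : ∀ n, DCoh.IsPseudoCoherentD n (DCoh.toD X F))
    (e : DRing.toD ((St x).obj E) ≅ DRing.toD ((St x).obj F)) :
    ∃ V : X.Opens, x ∈ V ∧ Nonempty ((rd V.ι).obj (DCoh.toD X E) ≅ (rd V.ι).obj (DCoh.toD X F)) := by
  let m := c - 1
  obtain ⟨a, k, W, hWE, h1, h2, hfree, happ⟩ := exists_stalk_approx x E m (hE m)
  haveI : CochainComplex.IsStrictlyLE W (a + k) :=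
    (CochainComplex.isStrictlyLE_iff W _).2 fun i hi => h2 i hi.le
  haveI : ∀ n, Projective (W.X n) := fun n => by
    haveI := (hfree n).2
    exact (IsProjective.iff_projective (R := X.presheaf.stalk x) (W.X n)).1 Module.Projective.of_free
  haveI : CochainComplex.IsKProjective W := CochainComplex.isKProjective_of_projective W (a + k)
  obtain ⟨hWF, hhWF⟩ := ProjLift.Q_map_surjective W ((St x).obj F) (DerivedCategory.Q.map hWE ≫ e.hom)
  let h : W ⟶ (St x).obj (E ⊞ F) := hWE ≫ (St x).map biprod.inl + hWF ≫ (St x).map biprod.inr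
  obtain ⟨U, E', Φ, β, hx, hperf, hΦ⟩ := exists_spread_map x k a W h1 h2 hfree (E ⊞ F) h
  have hfst : h ≫ (St x).map biprod.fst = hWE := by
    simp only [h, Preadditive.add_comp, Category.assoc, ← Functor.map_comp, biprod.inl_fst, biprod.inr_fst,
      Functor.map_zero, comp_zero, add_zero, CategoryTheory.Functor.map_id]
    exact Category.comp_id _
  have hsnd : h ≫ (St x).map biprod.snd = hWF := by
    simp only [h, Preadditive.add_comp, Category.assoc, ← Functor.map_comp, biprod.inl_snd, biprod.inr_snd,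
      Functor.map_zero, comp_zero, zero_add, CategoryTheory.Functor.map_id]
    exact Category.comp_id _
  have hAE : Approx m (DerivedCategory.Q.map ((St x).map (Φ ≫ biprod.fst))) := by
    rw [Functor.map_comp (St x), hΦ, Category.assoc, hfst, Functor.map_comp]
    exact (Approx.of_isIso _ _).comp happ
  have hAF : Approx m (DerivedCategory.Q.map ((St x).map (Φ ≫ biprod.snd))) := by
    rw [Functor.map_comp (St x), hΦ, Category.assoc, hsnd, Functor.map_comp, hhWF]
    exact (Approx.of_isIso _ _).comp (happ.comp (Approx.of_isIso _ _))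
  obtain ⟨V₁, hV₁, -, hA₁⟩ := exists_nhd_approx x (Φ ≫ biprod.fst) U hx hperf d hE m hAE
  obtain ⟨V₂, hV₂, -, hA₂⟩ := exists_nhd_approx x (Φ ≫ biprod.snd) U hx hperf d hF m hAF
  let V := V₁ ⊓ V₂
  haveI := Thomason.isGE_rd V (DCoh.toD X E) c
  haveI := Thomason.isGE_rd V (DCoh.toD X F) c
  obtain ⟨e₁⟩ := nonempty_truncGE_iso _ c m (by omega) (approx_mono inf_le_left _ hA₁ (V' := V))
  obtain ⟨e₂⟩ := nonempty_truncGE_iso _ c m (by omega) (approx_mono inf_le_right _ hA₂ (V' := V))
  exact ⟨V, ⟨hV₁, hV₂⟩, ⟨e₁.symm ≪≫ e₂⟩⟩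

end Groth.Agent.H16Derived.StalkSpread
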