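import Groth.Agent.H16Derived.StalkSpread.Free
import Groth.Agent.H16Derived.KFlat.StrictPerfCone
import Groth.Agent.H16Derived.KFlat.PerfCohSingle
import Groth.Agent.H16Derived.Dual.PseudoQCoh
import Groth.Agent.H16Derived.ProjLift
import Mathlib.RingTheory.LocalRing.Module

/-!
# Perfect complexes over a local ring spread to a neighbourhood
-/

set_option autoImplicit false
set_option linter.style.haveILetI false
set_option linter.unusedSectionVars false
set_option backward.isDefEq.respectTransparency false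

universe u

open CategoryTheory CategoryTheory.Limits AlgebraicGeometry Pretriangulated

attribute [local instance] HasDerivedCategory.standard

namespace Groth.Agent.H16Derived.StalkSpread

open Groth.Agent.H16Derived.KFlat.Stalk

variable {X : Scheme.{u}} (x : X)

/-- The stalk on complexes. -/
noncomputable abbrev St : CochainComplex X.Modules ℤ ⥤ DRing.Cx (X.presheaf.stalk x) :=
  (DerSch.stalkFunctor X x).mapHomologicalComplex (ComplexShape.up ℤ)

/-- `P` is the stalk at `x` of a complex that is strictly perfect near `x`. -/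
def Spreads (P : Dual.D (X.presheaf.stalk x)) : Prop :=
  ∃ (U : X.Opens) (E : CochainComplex X.Modules ℤ), x ∈ U ∧
    DCoh.IsStrictlyPerfect ((DCoh.restrictCx U).obj E) ∧
    Nonempty (DRing.toD ((St x).obj E) ≅ P)

theorem spreads_of_iso {P P' : Dual.D (X.presheaf.stalk x)} (e : P ≅ P') (h : Spreads x P) : Spreads x P' := by
  obtain ⟨U, E, hx, hE, ⟨i⟩⟩ := h
  exact ⟨U, E, hx, hE, ⟨i ≪≫ e⟩⟩

theorem spreads_zero {P : Dual.D (X.presheaf.stalk x)} (h : IsZero P) : Spreads x P := by
  let Z := HomologicalComplex.zero (V := X.Modules) (c := ComplexShape.up ℤ)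
  refine ⟨⊤, Z, trivial, isStrictlyPerfect_of_isZero fun i =>
    (Scheme.Modules.restrictFunctor _).map_isZero (isZero_zero _), ⟨IsZero.iso ?_ h⟩⟩
  exact Functor.map_isZero DerivedCategory.Q ((St x).map_isZero HomologicalComplex.isZero_zero)

/-- A finite locally free module in one degree is strictly perfect. -/
theorem isStrictlyPerfect_singleAt {Y : Scheme.{u}} {M : Y.Modules} (h : FlatMod.IsFinLocFree M) (j : ℤ) :
    DCoh.IsStrictlyPerfect ((HomologicalComplex.single Y.Modules (ComplexShape.up ℤ) j).obj M) := by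
  refine ⟨⟨j, j, fun i hi => HomologicalComplex.isZero_single_obj_X _ _ _ _ (by omega)⟩, fun i => ?_⟩
  by_cases hi : i = j
  · subst hi
    exact isFinLocFree_of_iso (HomologicalComplex.singleObjXSelf (ComplexShape.up ℤ) i M).symm h
  · exact isFinLocFree_of_isZero (HomologicalComplex.isZero_single_obj_X _ _ _ _ hi)

/-- A map out of a finite free module into the stalk of a complex lifts near `x`. -/
theorem exists_lift {U : X.Opens} (hx : x ∈ U) (E : CochainComplex X.Modules ℤ) (j : ℤ) (n : ℕ)
    (g : (HomologicalComplex.single _ (ComplexShape.up ℤ) j).obj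
        (ModuleCat.of (X.presheaf.stalk x) (Fin n → X.presheaf.stalk x)) ⟶ (St x).obj E) :
    ∃ (W : X.Opens) (φ : (HomologicalComplex.single _ (ComplexShape.up ℤ) j).obj (freeOn W n) ⟶ E)
      (α : (HomologicalComplex.single _ (ComplexShape.up ℤ) j).obj
        (ModuleCat.of (X.presheaf.stalk x) (Fin n → X.presheaf.stalk x)) ≅
        (St x).obj ((HomologicalComplex.single _ (ComplexShape.up ℤ) j).obj (freeOn W n))),
      x ∈ W ∧ W ≤ U ∧ α.hom ≫ (St x).map φ = g := by
  classical
  let R := X.presheaf.stalk x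
  let g' : ModuleCat.of R (Fin n → R) ⟶ (DerSch.stalkFunctor X x).obj (E.X j) :=
    (HomologicalComplex.singleObjXSelf (ComplexShape.up ℤ) j _).inv ≫ g.f j
  have hg' : g' ≫ (DerSch.stalkFunctor X x).map (E.d j (j + 1)) = 0 := by
    have h := g.comm j (j + 1)
    rw [HomologicalComplex.single_obj_d, zero_comp] at h
    rw [Category.assoc]
    exact (congrArg (_ ≫ ·) h).trans comp_zero
  have key : ∀ k : Fin n, ∃ (W : X.Opens) (hW : x ∈ W) (s : Γ(E.X j, W)), W ≤ U ∧
      (E.X j).presheaf.germ W x hW s = g' (Pi.single k 1) ∧ (E.d j (j + 1)).app W s = 0 := fun k => by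
    obtain ⟨W, hW, s, hs⟩ := (E.X j).presheaf.exists_germ_eq (g' (Pi.single k 1))
    have h0 : (E.X (j + 1)).presheaf.germ W x hW ((E.d j (j + 1)).app W s) =
        (E.X (j + 1)).presheaf.germ W x hW 0 := by
      rw [map_zero]
      have h1 := ConcreteCategory.congr_hom hg' (Pi.single k 1)
      refine Eq.trans ?_ (h1.trans rfl)
      show _ = (DerSch.stalkFunctor X x).map (E.d j (j + 1)) (g' (Pi.single k 1))
      rw [← hs]
      exact (TopCat.Presheaf.stalkFunctor_map_germ_apply W x hW (E.d j (j + 1)).mapPresheaf s).symm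
    obtain ⟨V, hV, iV, iV', he⟩ := (E.X (j + 1)).presheaf.germ_eq x hW hW _ _ h0
    refine ⟨V ⊓ U, (⟨hV, hx⟩ : x ∈ V ⊓ U), (E.X j).presheaf.map (homOfLE (inf_le_left.trans iV.le)).op s, inf_le_right,
      ((E.X j).presheaf.germ_res_apply (homOfLE (inf_le_left.trans iV.le)) x (⟨hV, hx⟩ : x ∈ V ⊓ U) s).trans hs, ?_⟩
    have he' : (E.X (j + 1)).presheaf.map iV.op ((E.d j (j + 1)).app W s) = 0 := by rw [he, map_zero]
    refine (H11Tilde.app_map_apply (E.d j (j + 1)) (inf_le_left.trans iV.le) s).trans ?_
    show (E.X (j + 1)).presheaf.map ((homOfLE (inf_le_left : V ⊓ U ≤ V)) ≫ iV).op _ = 0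
    rw [op_comp, Functor.map_comp, ConcreteCategory.comp_apply, he', map_zero]
  choose V hV s hVU hs hds using key
  let W : X.Opens := U ⊓ Finset.univ.inf V
  have hW : x ∈ W := by
    refine ⟨hx, ?_⟩
    rw [SetLike.mem_coe, ← SetLike.mem_coe, TopologicalSpace.Opens.coe_finset_inf]
    simpa using hV
  have hWV : ∀ k, W ≤ V k := fun k => inf_le_right.trans (Finset.inf_le (Finset.mem_univ k))
  let φ₀ : freeOn W n ⟶ E.X j :=
    Sigma.desc fun k => (genEquiv W (E.X j)).symm ((E.X j).presheaf.map (homOfLE (hWV k)).op (s k))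
  have hφd : φ₀ ≫ E.d j (j + 1) = 0 := Sigma.hom_ext _ _ fun k => by
    rw [Sigma.ι_desc_assoc, comp_zero]
    apply (genEquiv W _).injective
    rw [genEquiv_comp, Equiv.apply_symm_apply, H11Tilde.app_map_apply, hds, map_zero, genEquiv_eq]
    rfl
  let φ := HomologicalComplex.mkHomFromSingle φ₀ (fun i hi => by
    obtain rfl : j + 1 = i := hi
    exact hφd)
  obtain ⟨α₀, hα₀⟩ := exists_stalk_freeOn x W hW n
  let α := (HomologicalComplex.single _ (ComplexShape.up ℤ) j).mapIso α₀ ≪≫
    ((HomologicalComplex.singleMapHomologicalComplex (DerSch.stalkFunctor X x) (ComplexShape.up ℤ) j).app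
      (freeOn W n)).symm
  refine ⟨W, φ, α, hW, inf_le_left, HomologicalComplex.from_single_hom_ext ?_⟩
  have hf : α.hom.f j ≫ ((St x).map φ).f j =
      (HomologicalComplex.singleObjXSelf (ComplexShape.up ℤ) j _).hom ≫
        α₀.hom ≫ (DerSch.stalkFunctor X x).map φ₀ := by
    simp [α, φ, HomologicalComplex.mkHomFromSingle_f,
      HomologicalComplex.singleMapHomologicalComplex_inv_app_self, HomologicalComplex.single_map_f_self,
      ← Functor.map_comp]
  rw [HomologicalComplex.comp_f, hf]
  have hg : g.f j = (HomologicalComplex.singleObjXSelf (ComplexShape.up ℤ) j _).hom ≫ g' :=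
    (Iso.hom_inv_id_assoc _ _).symm
  rw [hg]
  refine congrArg (_ ≫ ·) (ModuleCat.hom_ext ((Pi.basisFun R (Fin n)).ext fun k => ?_))
  rw [Pi.basisFun_apply]
  show (DerSch.stalkFunctor X x).map φ₀ (α₀.hom (Pi.single k 1)) = g' (Pi.single k 1)
  rw [hα₀, taut, ← ConcreteCategory.comp_apply, ← Functor.map_comp, Sigma.ι_desc]
  refine (TopCat.Presheaf.stalkFunctor_map_germ_apply W x hW (Scheme.Modules.Hom.mapPresheaf
    ((genEquiv W (E.X j)).symm ((E.X j).presheaf.map (homOfLE (hWV k)).op (s k)))) (genSect W)).trans ?_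
  rw [Scheme.Modules.mapPresheaf_app, ← genEquiv_eq, Equiv.apply_symm_apply]
  exact ((E.X j).presheaf.germ_res_apply (homOfLE (hWV k)) x hW (s k)).trans (hs k)

/-- Cones of maps out of finite free modules spread. -/
theorem spreads_cone {T : Triangle (Dual.D (X.presheaf.stalk x))} (hT : T ∈ distTriang _)
    (j : ℤ) (n : ℕ)
    (e₁ : T.obj₁ ≅ DRing.toD ((HomologicalComplex.single _ (ComplexShape.up ℤ) j).obj
      (ModuleCat.of (X.presheaf.stalk x) (Fin n → X.presheaf.stalk x))))
    (h₂ : Spreads x T.obj₂) : Spreads x T.obj₃ := by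
  obtain ⟨U, E, hx, hE, ⟨e₂⟩⟩ := h₂
  let S := (HomologicalComplex.single _ (ComplexShape.up ℤ) j).obj
    (ModuleCat.of (X.presheaf.stalk x) (Fin n → X.presheaf.stalk x))
  haveI : CochainComplex.IsStrictlyLE S j := inferInstance
  haveI : CochainComplex.IsKProjective S := CochainComplex.isKProjective_of_projective S j
  obtain ⟨g, hg⟩ := ProjLift.Q_map_surjective S ((St x).obj E) (e₁.inv ≫ T.mor₁ ≫ e₂.inv)
  obtain ⟨W, φ, α, hW, hWU, hα⟩ := exists_lift x hx E j n g
  refine ⟨W, CochainComplex.mappingCone φ, hW, ?_, ?_⟩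
  · refine isStrictlyPerfect_of_iso
      (CochainComplex.mappingCone.mapHomologicalComplexIso φ (Scheme.Modules.restrictFunctor W.ι)).symm
      (isStrictlyPerfect_mappingCone _ ?_ ?_)
    · exact isStrictlyPerfect_of_iso
        ((HomologicalComplex.singleMapHomologicalComplex (Scheme.Modules.restrictFunctor W.ι)
          (ComplexShape.up ℤ) j).app (freeOn W n)).symm
        (isStrictlyPerfect_singleAt (isFinLocFree_restrict_freeOn le_rfl n) j)
    · exact isStrictlyPerfect_of_iso
        (((NatIso.mapHomologicalComplex (Scheme.Modules.restrictFunctorCongr (X.homOfLE_ι hWU).symm ≪≫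
          Scheme.Modules.restrictFunctorComp (X.homOfLE hWU) U.ι) (ComplexShape.up ℤ)).app E).symm)
        (isStrictlyPerfect_rd (X.homOfLE hWU) hE)
  · let i := CochainComplex.mappingCone.mapHomologicalComplexIso φ (DerSch.stalkFunctor X x)
    let eC : T ≅ DerivedCategory.Q.mapTriangle.obj (CochainComplex.mappingCone.triangle ((St x).map φ)) :=
      isoTriangleOfIso₁₂ T _ hT (DerivedCategory.mappingCone_triangle_distinguished _)
        (e₁ ≪≫ DerivedCategory.Q.mapIso α) e₂.symm (by
          show T.mor₁ ≫ e₂.inv = (e₁.hom ≫ DerivedCategory.Q.map α.hom) ≫ DerivedCategory.Q.map ((St x).map φ)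
          rw [Category.assoc, ← Functor.map_comp, hα, hg, Iso.hom_inv_id_assoc])
    exact ⟨DerivedCategory.Q.mapIso i ≪≫ (Triangle.π₃.mapIso eC).symm⟩

/-- Perfect objects over the local ring spread. -/
theorem spreads_of_bounded : ∀ (k : ℕ) (a : ℤ) (E : DRing.Cx (X.presheaf.stalk x)),
    (∀ q, q < a → IsZero (E.X q)) → (∀ q, a + k ≤ q → IsZero (E.X q)) →
    (∀ q, Module.Finite (X.presheaf.stalk x) (E.X q) ∧ Module.Projective (X.presheaf.stalk x) (E.X q)) →
    Spreads x (DRing.toD E) := by
  intro k
  induction k with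
  | zero =>
    intro a E h1 h2 _
    refine spreads_zero x (Functor.map_isZero DerivedCategory.Q ?_)
    rw [IsZero.iff_id_eq_zero]
    refine HomologicalComplex.hom_ext _ _ fun i => ?_
    rcases lt_or_ge i a with hi | hi
    · exact (h1 i hi).eq_of_src _ _
    · exact (h2 i (by simpa using hi)).eq_of_src _ _
  | succ k ih =>
    intro a E h1 h2 hfin
    let R := X.presheaf.stalk x
    let c : ℤ := a + 1
    have hgeq : Spreads x (DRing.toD (KFlat.Brutal.geq E c)) := by
      refine ih c _ (fun q hq => KFlat.Brutal.isZero_geq E c hq) (fun q hq => ?_) (fun q => ?_)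
      · haveI := KFlat.Brutal.isIso_ι_f E c (show c ≤ q by omega)
        exact (h2 q (by push_cast; omega)).of_iso (asIso ((KFlat.Brutal.ι E c).f q))
      · rcases lt_or_ge q c with hq | hq
        · have hz := KFlat.Brutal.isZero_geq E c hq
          haveI := ModuleCat.subsingleton_of_isZero hz
          exact ⟨Module.Finite.of_surjective (0 : R →ₗ[R] _) (fun y => ⟨0, Subsingleton.elim _ _⟩),
            inferInstance⟩
        · haveI := KFlat.Brutal.isIso_ι_f E c hq
          let e := (asIso ((KFlat.Brutal.ι E c).f q)).toLinearEquiv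
          haveI := (hfin q).1
          haveI := (hfin q).2
          exact ⟨Module.Finite.equiv e.symm, Module.Projective.of_equiv e.symm⟩
    let C := cokernel (KFlat.Brutal.ι E c)
    haveI : C.IsStrictlyGE a := (CochainComplex.isStrictlyGE_iff _ a).2 fun q hq =>
      KFlat.Brutal.isZero_cokernel' E c (h1 q hq)
    haveI : C.IsStrictlyLE a := (CochainComplex.isStrictlyLE_iff _ a).2 fun q hq =>
      KFlat.Brutal.isZero_cokernel E c (show c ≤ q by omega)
    obtain ⟨M, ⟨e⟩⟩ := CochainComplex.exists_iso_single C a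
    haveI := KFlat.Brutal.isIso_cokernel_π E c (show a < c by omega)
    let eM : M ≅ E.X a :=
      (HomologicalComplex.singleObjXSelf (ComplexShape.up ℤ) a M).symm ≪≫
        (HomologicalComplex.eval _ (ComplexShape.up ℤ) a).mapIso e.symm ≪≫
        (asIso ((cokernel.π (KFlat.Brutal.ι E c)).f a)).symm
    haveI := (hfin a).1
    haveI := (hfin a).2
    haveI : Module.Free R (E.X a) := Module.free_of_flat_of_isLocalRing
    let n := Module.finrank R (E.X a)
    let b := Module.finBasis R (E.X a)
    let eF : M ≅ ModuleCat.of R (Fin n → R) := eM ≪≫ b.equivFun.toModuleIso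
    let T := DerivedCategory.triangleOfSES (KFlat.Brutal.shortExact E c)
    have hT := DerivedCategory.triangleOfSES_distinguished (KFlat.Brutal.shortExact E c)
    let e₃ : T.obj₃ ≅ (DerivedCategory.singleFunctor _ a).obj (ModuleCat.of R (Fin n → R)) :=
      DerivedCategory.Q.mapIso (e ≪≫ (HomologicalComplex.single _ _ a).mapIso eF) ≪≫
        ((DerivedCategory.singleFunctorIsoCompQ _ a).app _).symm
    refine spreads_cone x (inv_rot_of_distTriang T hT) (a + 1) n ?_ hgeq
    exact (shiftFunctor _ (-1 : ℤ)).mapIso e₃ ≪≫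
      ((DerivedCategory.singleFunctors (ModuleCat.{u} R)).shiftIso (-1) (a + 1) a (by omega)).app _ ≪≫
      (DerivedCategory.singleFunctorIsoCompQ _ (a + 1)).app _

/-- Every perfect object over the local ring is the stalk of a complex perfect nearby. -/
theorem spreads_of_isPerfect {P : Dual.D (X.presheaf.stalk x)} (hP : DRing.IsPerfect (X.presheaf.stalk x) P) :
    Spreads x P := by
  obtain ⟨E, a, b, hv, hf, ⟨e⟩⟩ := hP
  exact spreads_of_iso x e (spreads_of_bounded x (b - a + 1).toNat a E (fun q hq => hv q (Or.inl hq))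
    (fun q hq => hv q (Or.inr (by omega))) hf)

end Groth.Agent.H16Derived.StalkSpread
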