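import Groth.Agent.H16Derived.StalkSpread.Main
import Groth.Agent.H16Derived.StalkSpread.Cone

/-!
# Free complexes over a local ring spread together with maps into stalk complexes
-/

set_option autoImplicit false
set_option linter.style.haveILetI false
set_option linter.unusedSectionVars false
set_option backward.isDefEq.respectTransparency false

universe u

open CategoryTheory CategoryTheory.Limits AlgebraicGeometry CochainComplex.HomComplex

attribute [local instance] HasDerivedCategory.standard

namespace Groth.Agent.H16Derived.StalkSpread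

open Groth.Agent.H16Derived.KFlat.Stalk

variable {X : Scheme.{u}} (x : X)

/-- Sections with prescribed germs, subject to finitely many relations, as maps out of free generators. -/
theorem exists_pair {U : X.Opens} (hx : x ∈ U) {M N M' N' : X.Modules} (d : M ⟶ M') (e : N ⟶ N') (f : M ⟶ N')
    (n : ℕ)
    (g : ModuleCat.of (X.presheaf.stalk x) (Fin n → X.presheaf.stalk x) ⟶ (DerSch.stalkFunctor X x).obj M)
    (k : ModuleCat.of (X.presheaf.stalk x) (Fin n → X.presheaf.stalk x) ⟶ (DerSch.stalkFunctor X x).obj N)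
    (hg : g ≫ (DerSch.stalkFunctor X x).map d = 0)
    (hk : k ≫ (DerSch.stalkFunctor X x).map e = g ≫ (DerSch.stalkFunctor X x).map f) :
    ∃ (W : X.Opens) (ψ : freeOn W n ⟶ M) (κ : freeOn W n ⟶ N)
      (α : ModuleCat.of (X.presheaf.stalk x) (Fin n → X.presheaf.stalk x) ≅
        (DerSch.stalkFunctor X x).obj (freeOn W n)),
      x ∈ W ∧ W ≤ U ∧ ψ ≫ d = 0 ∧ κ ≫ e = ψ ≫ f ∧
        α.hom ≫ (DerSch.stalkFunctor X x).map ψ = g ∧ α.hom ≫ (DerSch.stalkFunctor X x).map κ = k := by
  classical
  let R := X.presheaf.stalk x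
  have germ_map : ∀ {A B : X.Modules} (φ : A ⟶ B) (W : X.Opens) (hW : x ∈ W) (s : Γ(A, W)),
      (DerSch.stalkFunctor X x).map φ (A.presheaf.germ W x hW s) = B.presheaf.germ W x hW (φ.app W s) :=
    fun φ W hW s => TopCat.Presheaf.stalkFunctor_map_germ_apply W x hW φ.mapPresheaf s
  -- relations between germs hold near the point
  have key : ∀ i : Fin n, ∃ (V : X.Opens) (hV : x ∈ V) (s : Γ(M, V)) (t : Γ(N, V)), V ≤ U ∧
      M.presheaf.germ V x hV s = g (Pi.single i 1) ∧ N.presheaf.germ V x hV t = k (Pi.single i 1) ∧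
      d.app V s = 0 ∧ e.app V t = f.app V s := fun i => by
    obtain ⟨A, hA, s₀, hs₀⟩ := M.presheaf.exists_germ_eq (g (Pi.single i 1))
    obtain ⟨B, hB, t₀, ht₀⟩ := N.presheaf.exists_germ_eq (k (Pi.single i 1))
    let W₀ : X.Opens := A ⊓ B ⊓ U
    have hW₀ : x ∈ W₀ := (⟨⟨hA, hB⟩, hx⟩ : x ∈ A ⊓ B ⊓ U)
    let s := M.presheaf.map (homOfLE (inf_le_left.trans inf_le_left : W₀ ≤ A)).op s₀
    let t := N.presheaf.map (homOfLE (inf_le_left.trans inf_le_right : W₀ ≤ B)).op t₀
    have hs : M.presheaf.germ W₀ x hW₀ s = g (Pi.single i 1) :=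
      (M.presheaf.germ_res_apply _ x hW₀ s₀).trans hs₀
    have ht : N.presheaf.germ W₀ x hW₀ t = k (Pi.single i 1) :=
      (N.presheaf.germ_res_apply _ x hW₀ t₀).trans ht₀
    have h1 : M'.presheaf.germ W₀ x hW₀ (d.app W₀ s) = M'.presheaf.germ W₀ x hW₀ 0 := by
      rw [map_zero]
      refine ((germ_map d W₀ hW₀ s).symm.trans (congrArg _ hs)).trans ?_
      exact ConcreteCategory.congr_hom hg (Pi.single i 1)
    have h2 : N'.presheaf.germ W₀ x hW₀ (e.app W₀ t) = N'.presheaf.germ W₀ x hW₀ (f.app W₀ s) := by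
      refine ((germ_map e W₀ hW₀ t).symm.trans (congrArg _ ht)).trans ?_
      refine (ConcreteCategory.congr_hom hk (Pi.single i 1)).trans ?_
      exact (congrArg _ hs.symm).trans (germ_map f W₀ hW₀ s)
    obtain ⟨V₁, hV₁, i₁, j₁, he₁⟩ := M'.presheaf.germ_eq x hW₀ hW₀ _ _ h1
    obtain ⟨V₂, hV₂, i₂, j₂, he₂⟩ := N'.presheaf.germ_eq x hW₀ hW₀ _ _ h2
    let V := V₁ ⊓ V₂
    have hV : x ∈ V := (⟨hV₁, hV₂⟩ : x ∈ V₁ ⊓ V₂)
    have hle : V ≤ W₀ := inf_le_left.trans i₁.le
    have res₁ : ∀ (A : X.Modules) (a : Γ(A, W₀)), A.presheaf.map (homOfLE hle).op a =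
        A.presheaf.map (homOfLE (inf_le_left : V ≤ V₁)).op (A.presheaf.map i₁.op a) := fun A a => by
      rw [← ConcreteCategory.comp_apply, ← Functor.map_comp]
      rfl
    have res₂ : ∀ (A : X.Modules) (a : Γ(A, W₀)) (i' : V₂ ⟶ W₀), A.presheaf.map (homOfLE hle).op a =
        A.presheaf.map (homOfLE (inf_le_right : V ≤ V₂)).op (A.presheaf.map i'.op a) := fun A a i' => by
      rw [← ConcreteCategory.comp_apply, ← Functor.map_comp]
      rfl
    refine ⟨V, hV, M.presheaf.map (homOfLE hle).op s, N.presheaf.map (homOfLE hle).op t,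
      hle.trans inf_le_right, (M.presheaf.germ_res_apply _ x hV s).trans hs,
      (N.presheaf.germ_res_apply _ x hV t).trans ht, ?_, ?_⟩
    · refine (H11Tilde.app_map_apply d hle s).trans ?_
      rw [res₁, he₁, map_zero, map_zero]
    · refine (H11Tilde.app_map_apply e hle t).trans (Eq.trans ?_ (H11Tilde.app_map_apply f hle s).symm)
      rw [res₂ N' _ i₂, he₂, ← res₂ N' _ j₂]
  choose V hV s t hVU hs ht hd he using key
  let W : X.Opens := U ⊓ Finset.univ.inf V
  have hW : x ∈ W := by
    refine ⟨hx, ?_⟩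
    rw [SetLike.mem_coe, ← SetLike.mem_coe, TopologicalSpace.Opens.coe_finset_inf]
    simpa using hV
  have hWV : ∀ i, W ≤ V i := fun i => inf_le_right.trans (Finset.inf_le (Finset.mem_univ i))
  let ψ : freeOn W n ⟶ M :=
    Sigma.desc fun i => (genEquiv W M).symm (M.presheaf.map (homOfLE (hWV i)).op (s i))
  let κ : freeOn W n ⟶ N :=
    Sigma.desc fun i => (genEquiv W N).symm (N.presheaf.map (homOfLE (hWV i)).op (t i))
  obtain ⟨α, hα⟩ := exists_stalk_freeOn x W hW n
  refine ⟨W, ψ, κ, α, hW, inf_le_left, ?_, ?_, ?_, ?_⟩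
  · refine Sigma.hom_ext _ _ fun i => ?_
    rw [Sigma.ι_desc_assoc, comp_zero]
    apply (genEquiv W _).injective
    rw [genEquiv_comp, Equiv.apply_symm_apply, H11Tilde.app_map_apply, hd, map_zero, genEquiv_eq]
    rfl
  · refine Sigma.hom_ext _ _ fun i => ?_
    rw [Sigma.ι_desc_assoc, Sigma.ι_desc_assoc]
    apply (genEquiv W _).injective
    rw [genEquiv_comp, genEquiv_comp, Equiv.apply_symm_apply, Equiv.apply_symm_apply, H11Tilde.app_map_apply,
      H11Tilde.app_map_apply, he]
  · refine ModuleCat.hom_ext ((Pi.basisFun R (Fin n)).ext fun i => ?_)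
    rw [Pi.basisFun_apply]
    show (DerSch.stalkFunctor X x).map ψ (α.hom (Pi.single i 1)) = g (Pi.single i 1)
    rw [hα, taut, ← ConcreteCategory.comp_apply, ← Functor.map_comp, Sigma.ι_desc]
    refine (germ_map _ W hW (genSect W)).trans ?_
    rw [← genEquiv_eq, Equiv.apply_symm_apply]
    exact (M.presheaf.germ_res_apply (homOfLE (hWV i)) x hW (s i)).trans (hs i)
  · refine ModuleCat.hom_ext ((Pi.basisFun R (Fin n)).ext fun i => ?_)
    rw [Pi.basisFun_apply]
    show (DerSch.stalkFunctor X x).map κ (α.hom (Pi.single i 1)) = k (Pi.single i 1)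
    rw [hα, taut, ← ConcreteCategory.comp_apply, ← Functor.map_comp, Sigma.ι_desc]
    refine (germ_map _ W hW (genSect W)).trans ?_
    rw [← genEquiv_eq, Equiv.apply_symm_apply]
    exact (N.presheaf.germ_res_apply (homOfLE (hWV i)) x hW (t i)).trans (ht i)

/-- A bounded complex of finite free modules spreads with a given map into a stalk complex. -/
theorem exists_spread_map : ∀ (k : ℕ) (a : ℤ) (W : DRing.Cx (X.presheaf.stalk x)),
    (∀ q, q < a → IsZero (W.X q)) → (∀ q, a + k ≤ q → IsZero (W.X q)) →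
    (∀ q, Module.Finite (X.presheaf.stalk x) (W.X q) ∧ Module.Free (X.presheaf.stalk x) (W.X q)) →
    ∀ (G : CochainComplex X.Modules ℤ) (h : W ⟶ (St x).obj G),
      ∃ (U : X.Opens) (E : CochainComplex X.Modules ℤ) (φ : E ⟶ G) (β : (St x).obj E ≅ W), x ∈ U ∧
        DCoh.IsStrictlyPerfect ((DCoh.restrictCx U).obj E) ∧ (St x).map φ = β.hom ≫ h := by
  intro k
  induction k with
  | zero =>
    intro a W h1 h2 _ G h
    have hW : IsZero W := by
      rw [IsZero.iff_id_eq_zero]
      refine HomologicalComplex.hom_ext _ _ fun i => ?_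
      rcases lt_or_ge i a with hi | hi
      · exact (h1 i hi).eq_of_src _ _
      · exact (h2 i (by simpa using hi)).eq_of_src _ _
    let Z := HomologicalComplex.zero (V := X.Modules) (c := ComplexShape.up ℤ)
    have hZ : IsZero Z := HomologicalComplex.isZero_zero
    exact ⟨⊤, Z, 0, IsZero.iso ((St x).map_isZero hZ) hW, trivial, isStrictlyPerfect_of_isZero fun i =>
      (Scheme.Modules.restrictFunctor _).map_isZero (isZero_zero _), ((St x).map_isZero hZ).eq_of_src _ _⟩
  | succ k ih =>
    intro a W h1 h2 hfin G h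
    let R := X.presheaf.stalk x
    let c : ℤ := a + 1
    let ι := KFlat.Brutal.ι W c
    obtain ⟨U, E, φ, β, hx, hE, hφ⟩ := ih c (KFlat.Brutal.geq W c)
      (fun q hq => KFlat.Brutal.isZero_geq W c hq) (fun q hq => by
        haveI := KFlat.Brutal.isIso_ι_f W c (show c ≤ q by omega)
        exact (h2 q (by push_cast; omega)).of_iso (asIso (ι.f q)))
      (fun q => by
        rcases lt_or_ge q c with hq | hq
        · haveI := ModuleCat.subsingleton_of_isZero (KFlat.Brutal.isZero_geq W c hq)
          exact ⟨Module.Finite.of_surjective (0 : R →ₗ[R] _) (fun y => ⟨0, Subsingleton.elim _ _⟩),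
            inferInstance⟩
        · haveI := KFlat.Brutal.isIso_ι_f W c hq
          haveI := (hfin q).1
          haveI := (hfin q).2
          let e := (asIso (ι.f q)).toLinearEquiv
          exact ⟨Module.Finite.equiv e.symm, Module.Free.of_equiv e.symm⟩)
      G (ι ≫ h)
    haveI := (hfin a).1
    haveI := (hfin a).2
    let n := Module.finrank R (W.X a)
    let b : ModuleCat.of R (Fin n → R) ≅ W.X a := ((Module.finBasis R (W.X a)).equivFun.toModuleIso).symm
    haveI := KFlat.Brutal.isIso_ι_f W c (le_refl c)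
    let g : ModuleCat.of R (Fin n → R) ⟶ (DerSch.stalkFunctor X x).obj (E.X c) :=
      b.hom ≫ W.d a c ≫ inv (ι.f c) ≫ β.inv.f c
    have hιd : W.d a c ≫ inv (ι.f c) ≫ (KFlat.Brutal.geq W c).d c (c + 1) = 0 := by
      haveI := KFlat.Brutal.isIso_ι_f W c (show c ≤ c + 1 by omega)
      rw [← cancel_mono (ι.f (c + 1))]
      simp only [Category.assoc, ← ι.comm c (c + 1), IsIso.inv_hom_id_assoc,
        HomologicalComplex.d_comp_d, zero_comp]
    have hg : g ≫ (DerSch.stalkFunctor X x).map (E.d c (c + 1)) = 0 := by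
      show g ≫ ((St x).obj E).d c (c + 1) = 0
      simp only [g, Category.assoc, β.inv.comm c (c + 1), reassoc_of% hιd, zero_comp, comp_zero]
    have hβφ : β.inv.f c ≫ (DerSch.stalkFunctor X x).map (φ.f c) = ι.f c ≫ h.f c := by
      show β.inv.f c ≫ ((St x).map φ).f c = _
      rw [hφ]
      simp
    have hk : (b.hom ≫ h.f a) ≫ (DerSch.stalkFunctor X x).map (G.d a c) =
        g ≫ (DerSch.stalkFunctor X x).map (φ.f c) := by
      show (b.hom ≫ h.f a) ≫ ((St x).obj G).d a c = _
      simp only [g, Category.assoc, hβφ, IsIso.inv_hom_id_assoc, h.comm a c]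
    obtain ⟨V, ψ₀, κ, α, hV, hVU, hψd, hκ, hαψ, hακ⟩ :=
      exists_pair x hx (E.d c (c + 1)) (G.d a c) (φ.f c) n g (b.hom ≫ h.f a) hg hk
    let S := (HomologicalComplex.single X.Modules (ComplexShape.up ℤ) c).obj (freeOn V n)
    let ψ : S ⟶ E := HomologicalComplex.mkHomFromSingle ψ₀ (fun i hi => by
      obtain rfl : c + 1 = i := hi
      exact hψd)
    have hca : c + -1 = a := by omega
    have eqα : δ (-1) 0 (Cochain.fromSingleMk κ hca) = Cochain.ofHom (ψ ≫ φ) :=
      eq_of_single (by omega) ψ φ κ (by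
        rw [hκ]
        simp [ψ, HomologicalComplex.mkHomFromSingle_f])
    let Φ := CochainComplex.mappingCone.desc ψ (Cochain.fromSingleMk κ hca) φ eqα
    refine ⟨V, CochainComplex.mappingCone ψ, Φ, ?_⟩
    -- the comparison of the stalk of the cone with `W`
    let σ : ((St x).obj S).X c ⟶ W.X a :=
      (DerSch.stalkFunctor X x).map (HomologicalComplex.singleObjXSelf (ComplexShape.up ℤ) c (freeOn V n)).hom ≫
        α.inv ≫ b.hom
    haveI hσ : IsIso σ := inferInstance
    have hS : ∀ q, q ≠ c → IsZero (((St x).obj S).X q) := fun q hq =>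
      (DerSch.stalkFunctor X x).map_isZero (HomologicalComplex.isZero_single_obj_X _ _ _ _ hq)
    have eqθ : δ (-1) 0 (Cochain.single σ (-1)) = Cochain.ofHom ((St x).map ψ ≫ β.hom ≫ ι) := by
      refine Cochain.ext _ _ fun q q' hqq' => ?_
      obtain rfl : q' = q := by omega
      by_cases hq : q' = c
      · subst hq
        rw [δ_v (-1) 0 (by omega) _ c c (by omega) a (c + 1) (by omega) (by omega), Cochain.single_v,
          Cochain.single_v_eq_zero _ _ _ _ _ (show c + 1 ≠ c by omega), comp_zero, smul_zero, add_zero,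
          Cochain.ofHom_v, HomologicalComplex.comp_f, HomologicalComplex.comp_f]
        have e1 : (DerSch.stalkFunctor X x).map ψ₀ = α.inv ≫ g := by rw [← hαψ, α.inv_hom_id_assoc]
        show σ ≫ W.d a c = (DerSch.stalkFunctor X x).map (ψ.f c) ≫ β.hom.f c ≫ ι.f c
        simp only [σ, ψ, HomologicalComplex.mkHomFromSingle_f, Functor.map_comp, Category.assoc, e1, g]
        refine congrArg (_ ≫ ·) (congrArg (_ ≫ ·) (congrArg (b.hom ≫ ·) ?_))
        have e2 : β.inv.f c ≫ β.hom.f c = 𝟙 _ := ((HomologicalComplex.eval _ _ c).mapIso β).inv_hom_id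
        rw [reassoc_of% e2, IsIso.inv_hom_id, Category.comp_id]
      · exact (hS _ hq).eq_of_src _ _
    let θ := CochainComplex.mappingCone.desc ((St x).map ψ) (Cochain.single σ (-1)) (β.hom ≫ ι) eqθ
    haveI hθ : IsIso θ := by
      refine isIso_desc _ _ _ eqθ fun q => ?_
      rcases lt_trichotomy q a with hq | rfl | hq
      · refine Or.inr ⟨hS _ (by omega), ?_⟩
        have hz : IsZero (((St x).obj E).X q) :=
          (KFlat.Brutal.isZero_geq W c (show q < c by omega)).of_iso
            ((HomologicalComplex.eval _ _ q).mapIso β)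
        exact isIso_of_source_target_iso_zero _ hz.isoZero (h1 q hq).isoZero
      · refine Or.inl ⟨?_, (KFlat.Brutal.isZero_geq W c (show q < c by omega)).of_iso
          ((HomologicalComplex.eval _ _ q).mapIso β)⟩
        rw [Cochain.single_v]
        exact hσ
      · refine Or.inr ⟨hS _ (by omega), ?_⟩
        haveI := KFlat.Brutal.isIso_ι_f W c (show c ≤ q by omega)
        haveI : IsIso (β.hom.f q) := inferInstance
        rw [HomologicalComplex.comp_f]
        infer_instance
    refine ⟨CochainComplex.mappingCone.mapHomologicalComplexIso ψ (DerSch.stalkFunctor X x) ≪≫ asIso θ, hV, ?_, ?_⟩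
    · refine isStrictlyPerfect_of_iso
        (CochainComplex.mappingCone.mapHomologicalComplexIso ψ (Scheme.Modules.restrictFunctor V.ι)).symm
        (isStrictlyPerfect_mappingCone _ ?_ ?_)
      · exact isStrictlyPerfect_of_iso
          ((HomologicalComplex.singleMapHomologicalComplex (Scheme.Modules.restrictFunctor V.ι)
            (ComplexShape.up ℤ) c).app (freeOn V n)).symm
          (isStrictlyPerfect_singleAt (isFinLocFree_restrict_freeOn le_rfl n) c)
      · exact isStrictlyPerfect_of_iso
          (((NatIso.mapHomologicalComplex (Scheme.Modules.restrictFunctorCongr (X.homOfLE_ι hVU).symm ≪≫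
            Scheme.Modules.restrictFunctorComp (X.homOfLE hVU) U.ι) (ComplexShape.up ℤ)).app E).symm)
          (isStrictlyPerfect_rd (X.homOfLE hVU) hE)
    · rw [Iso.trans_hom, asIso_hom, Category.assoc]
      refine (map_desc (DerSch.stalkFunctor X x) ψ _ φ eqα).trans (congrArg (_ ≫ ·) ?_)
      refine HomologicalComplex.hom_ext _ _ fun q => CochainComplex.mappingCone.ext_from _ (q + 1) q rfl ?_ ?_
      · rw [CochainComplex.mappingCone.inl_v_desc_f, HomologicalComplex.comp_f,
          CochainComplex.mappingCone.inl_v_desc_f_assoc, Cochain.map_v]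
        by_cases hq : q + 1 = c
        · obtain rfl : q = a := by omega
          have e1 : (DerSch.stalkFunctor X x).map κ = α.inv ≫ b.hom ≫ h.f q := by
            rw [← hακ, α.inv_hom_id_assoc]
          rw [Cochain.fromSingleMk_v, Cochain.single_v, Functor.map_comp, e1]
          simp [σ]
        · exact (hS _ hq).eq_of_src _ _
      · rw [CochainComplex.mappingCone.inr_f_desc_f, HomologicalComplex.comp_f,
          CochainComplex.mappingCone.inr_f_desc_f_assoc, hφ]
        simp

end Groth.Agent.H16Derived.StalkSpread
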